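import Groth.Agent.KInj.Ops
import Groth.Agent.KInj.Existence
import Groth.Agent.KInj.Countable
import Mathlib

/-!
Countable products in derived categories, and their preservation by total right derived functors.
-/

set_option autoImplicit false
set_option backward.isDefEq.respectTransparency false
set_option backward.isDefEq.respectTransparency.types false

universe w w' v v' u u'

open CategoryTheory Category Limits

namespace Groth.Agent.RlimDer

open DerivedCategory

section Exact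

variable {B : Type u} [Category.{v} B] [Abelian B]

theorem hasExactLimitsOfShape [HasProductsOfShape ℕ B] [(lim : (Discrete ℕ ⥤ B) ⥤ B).PreservesEpimorphisms] :
    HasExactLimitsOfShape (Discrete ℕ) B := by
  refine ⟨?_⟩
  haveI : (lim : (Discrete ℕ ⥤ B) ⥤ B).Additive := Functor.additive_of_preserves_binary_products _
  rw [Functor.preservesFiniteColimits_iff_forall_exact_map_and_epi]
  intro S hS
  haveI := hS.epi_g
  exact ⟨((Functor.preservesFiniteLimits_iff_forall_exact_map_and_mono _).1 inferInstance S hS).1, inferInstance⟩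

/-- a functor preserving countable products sends componentwise inverted maps to isomorphisms -/
theorem isIso_map_piMap {C D : Type*} [Category* C] [Category* D] (H : C ⥤ D) {X Y : ℕ → C} [HasProduct X]
    [HasProduct Y] [PreservesLimit (Discrete.functor X) H] [PreservesLimit (Discrete.functor Y) H]
    (s : ∀ n, X n ⟶ Y n) (hs : ∀ n, IsIso (H.map (s n))) : IsIso (H.map (Limits.Pi.map s)) := by
  haveI := hs
  have hX := isLimitFanMkObjOfIsLimit H _ _ (productIsProduct X)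
  have hY := isLimitFanMkObjOfIsLimit H _ _ (productIsProduct Y)
  have h₁ : ∀ n, H.map (Limits.Pi.map s) ≫ H.map (Pi.π Y n) = H.map (Pi.π X n) ≫ H.map (s n) := fun n => by
    rw [← H.map_comp, ← H.map_comp, Pi.map_π]
  refine ⟨Fan.IsLimit.lift hX fun n => H.map (Pi.π Y n) ≫ inv (H.map (s n)), ?_, ?_⟩
  · refine Fan.IsLimit.hom_ext hX _ _ fun n => ?_
    have h₂ := Fan.IsLimit.fac hX (fun n => H.map (Pi.π Y n) ≫ inv (H.map (s n))) n
    simp only [Fan.mk_π_app, Fan.proj] at h₂ ⊢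
    rw [assoc, h₂, ← assoc, h₁, assoc, IsIso.hom_inv_id, comp_id, id_comp]
  · refine Fan.IsLimit.hom_ext hY _ _ fun n => ?_
    have h₂ := Fan.IsLimit.fac hX (fun n => H.map (Pi.π Y n) ≫ inv (H.map (s n))) n
    simp only [Fan.mk_π_app, Fan.proj] at h₂ ⊢
    rw [assoc, h₁, reassoc_of% h₂, IsIso.inv_hom_id, comp_id, id_comp]

variable [HasDerivedCategory.{w} B] [HasProductsOfShape ℕ B] [HasExactLimitsOfShape (Discrete ℕ) B]

theorem isIso_Q_map_piMap {X Y : ℕ → CochainComplex B ℤ} (s : ∀ n, X n ⟶ Y n)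
    (hs : ∀ n, IsIso (Q.map (s n))) : IsIso (Q.map (Limits.Pi.map s)) := by
  rw [isIso_Q_map_iff_quasiIso, quasiIso_iff]
  intro i
  rw [quasiIsoAt_iff_isIso_homologyMap]
  haveI := KInjProd.preservesLimitsOfShape_homology (A := B) (J := Discrete ℕ) (ComplexShape.up ℤ) i
  refine isIso_map_piMap (HomologicalComplex.homologyFunctor B (ComplexShape.up ℤ) i) s fun n => ?_
  haveI := (isIso_Q_map_iff_quasiIso B (s n)).1 (hs n)
  exact inferInstanceAs (IsIso (HomologicalComplex.homologyMap (s n) i))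

theorem exists_postcomp_of_Q_map_eq_zero {X Y : CochainComplex B ℤ} (a : X ⟶ Y) (h : Q.map a = 0) :
    ∃ (Y' : CochainComplex B ℤ) (t : Y ⟶ Y'), IsIso (Q.map t) ∧ Nonempty (Homotopy (a ≫ t) 0) := by
  have h' : Qh.map ((HomotopyCategory.quotient B _).map a) =
      Qh.map ((HomotopyCategory.quotient B (ComplexShape.up ℤ)).map (0 : X ⟶ Y)) := by
    rw [Functor.map_zero, Functor.map_zero, ← cancel_mono ((quotientCompQhIso B).hom.app Y),
      quotientCompQhIso_hom_naturality, h, comp_zero, zero_comp]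
  obtain ⟨Z, s, hs, e⟩ := (MorphismProperty.map_eq_iff_postcomp Qh
    (HomotopyCategory.quasiIso B (ComplexShape.up ℤ)) _ _).1 h'
  obtain ⟨Z, rfl⟩ := HomotopyCategory.quotient_obj_surjective Z
  obtain ⟨s, rfl⟩ := (HomotopyCategory.quotient _ _).map_surjective s
  rw [← isIso_Qh_map_iff] at hs
  refine ⟨Z, s, ?_, ⟨HomotopyCategory.homotopyOfEq _ _ ?_⟩⟩
  · exact (NatIso.isIso_map_iff (quotientCompQhIso B) s).1 hs
  · rw [Functor.map_zero, Functor.map_comp, e, Functor.map_zero, zero_comp]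

/-- when countable products are exact they compute products in the derived category -/
theorem existsUnique_lift (Y : ℕ → CochainComplex B ℤ) (Z : DerivedCategory B) (f : ∀ n, Z ⟶ Q.obj (Y n)) :
    ∃! g : Z ⟶ Q.obj (∏ᶜ Y), ∀ n, g ≫ Q.map (Pi.π Y n) = f n := by
  obtain ⟨X, ⟨e⟩⟩ : ∃ X, Nonempty (Q.obj X ≅ Z) := ⟨_, ⟨(Q : _ ⥤ DerivedCategory B).objObjPreimageIso Z⟩⟩
  have hex : ∃ g : Q.obj X ⟶ Q.obj (∏ᶜ Y), ∀ n, g ≫ Q.map (Pi.π Y n) = e.hom ≫ f n := by
    choose Y' g s hs hf using fun n => left_fac (e.hom ≫ f n)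
    haveI := hs
    haveI := isIso_Q_map_piMap s hs
    refine ⟨Q.map (Pi.lift g) ≫ inv (Q.map (Limits.Pi.map s)), fun n => ?_⟩
    have h₁ : inv (Q.map (Limits.Pi.map s)) ≫ Q.map (Pi.π Y n) = Q.map (Pi.π Y' n) ≫ inv (Q.map (s n)) := by
      rw [IsIso.inv_comp_eq, ← assoc, IsIso.eq_comp_inv, ← Functor.map_comp, ← Functor.map_comp, Pi.map_π]
    rw [assoc, h₁, ← assoc, ← Functor.map_comp, Pi.lift_π, hf]
  have hzero : ∀ g : Q.obj X ⟶ Q.obj (∏ᶜ Y), (∀ n, g ≫ Q.map (Pi.π Y n) = 0) → g = 0 := by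
    intro g hg
    obtain ⟨X', s, hs, a, rfl⟩ := right_fac g
    have ha : ∀ n, Q.map (a ≫ Pi.π Y n) = 0 := fun n => by
      have := hg n
      rw [assoc, ← Functor.map_comp] at this
      rw [← cancel_epi (inv (Q.map s)), this, comp_zero]
    choose Y' t ht hh using fun n => exists_postcomp_of_Q_map_eq_zero _ (ha n)
    haveI := isIso_Q_map_piMap t ht
    obtain ⟨h⟩ := KInj.nonempty_homotopy_of_pi (a ≫ Limits.Pi.map t) fun n => by
      simpa using hh n
    have h' : (Q : _ ⥤ DerivedCategory B).map (a ≫ Limits.Pi.map t) = Q.map 0 :=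
      KInj.Q_map_eq_of_homotopy (h.trans (Homotopy.ofEq (by simp)) |> fun h => (Homotopy.ofEq (sub_zero _)).trans h)
    rw [Functor.map_comp, Functor.map_zero, ← zero_comp (f := Q.map (Limits.Pi.map t)), cancel_mono] at h'
    rw [h', comp_zero]
  obtain ⟨g, hg⟩ := hex
  refine ⟨e.inv ≫ g, fun n => by rw [assoc, hg, Iso.inv_hom_id_assoc], fun g' hg' => ?_⟩
  rw [← cancel_epi e.hom, Iso.hom_inv_id_assoc, ← sub_eq_zero]
  refine hzero _ fun n => ?_
  rw [Preadditive.sub_comp, assoc, hg', hg, sub_self]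

end Exact

section Derived

variable {A : Type u} [Category.{v} A] [Abelian A] [HasDerivedCategory.{w} A]

/-- products of K-injectives compute products in the derived category -/
theorem existsUnique_lift_kinj (I : ℕ → CochainComplex A ℤ) [HasProduct I] (hI : ∀ n, (I n).IsKInjective)
    (Z : DerivedCategory A) (f : ∀ n, Z ⟶ Q.obj (I n)) :
    ∃! g : Z ⟶ Q.obj (∏ᶜ I), ∀ n, g ≫ Q.map (Pi.π I n) = f n := by
  haveI := KInj.isKInjective_pi I hI
  haveI := hI
  obtain ⟨X, ⟨e⟩⟩ : ∃ X, Nonempty (Q.obj X ≅ Z) := ⟨_, ⟨(Q : _ ⥤ DerivedCategory A).objObjPreimageIso Z⟩⟩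
  choose a ha using fun n => KInj.Q_map_surjective (e.hom ≫ f n)
  refine ⟨e.inv ≫ Q.map (Pi.lift a), fun n => ?_, fun g hg => ?_⟩
  · rw [assoc, ← Functor.map_comp, Pi.lift_π, ha, Iso.inv_hom_id_assoc]
  · obtain ⟨b, hb⟩ := KInj.Q_map_surjective (e.hom ≫ g)
    rw [← cancel_epi e.hom, Iso.hom_inv_id_assoc, ← hb]
    refine KInj.Q_map_eq_of_homotopy (KInj.nonempty_homotopy_of_pi _ fun n => ?_).some
    rw [Preadditive.sub_comp]
    apply KInj.nonempty_homotopy_of_Q_map_eq
    rw [Functor.map_comp, hb, assoc, hg, Pi.lift_π, ha]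

variable {B : Type u'} [Category.{v'} B] [Abelian B] [HasDerivedCategory.{w'} B] (F : A ⥤ B) [F.Additive]

/-- the functor derived in this file -/
noncomputable abbrev toD : HomotopyCategory A (ComplexShape.up ℤ) ⥤ DerivedCategory B :=
  F.mapHomotopyCategory (ComplexShape.up ℤ) ⋙ Qh

variable {F} (RF : DerivedCategory A ⥤ DerivedCategory B) (α : toD F ⟶ Qh ⋙ RF)

/-- the unit on complexes -/
noncomputable def unitQ : F.mapHomologicalComplex (ComplexShape.up ℤ) ⋙ Q ⟶ Q ⋙ RF where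
  app K := (quotientCompQhIso B).inv.app _ ≫ Qh.map ((F.mapHomotopyCategoryFactors _).inv.app K) ≫
    α.app ((HomotopyCategory.quotient A _).obj K) ≫ RF.map ((quotientCompQhIso A).hom.app K)
  naturality K L f := by
    have h₁ := (quotientCompQhIso B).inv.naturality ((F.mapHomologicalComplex (ComplexShape.up ℤ)).map f)
    have h₂ := (F.mapHomotopyCategoryFactors (ComplexShape.up ℤ)).inv.naturality f
    have h₃ := α.naturality ((HomotopyCategory.quotient A (ComplexShape.up ℤ)).map f)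
    simp only [Functor.comp_map] at h₁ h₂ h₃ ⊢
    rw [reassoc_of% h₁, ← Functor.map_comp_assoc, h₂, Functor.map_comp_assoc, reassoc_of% h₃, ← RF.map_comp,
      quotientCompQhIso_hom_naturality, RF.map_comp]
    simp only [assoc]

variable [RF.IsRightDerivedFunctor α (HomotopyCategory.quasiIso A (ComplexShape.up ℤ))]

variable (hres : ∀ K : CochainComplex A ℤ, ∃ (I : CochainComplex A ℤ) (f : K ⟶ I),
      I.IsKInjective ∧ QuasiIso f)

include hres in
theorem isIso_α {I : HomotopyCategory A (ComplexShape.up ℤ)} (hI : CochainComplex.IsKInjective I.as) : IsIso (α.app I) :=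
  (KInj.isDeforming_Qh hres (toD F)).isIso_app (HomotopyCategory.quasiIso A (ComplexShape.up ℤ)) RF α hI

include hres in
theorem isIso_unitQ (I : CochainComplex A ℤ) [hI : I.IsKInjective] : IsIso ((unitQ RF α).app I) := by
  haveI := isIso_α RF α hres (I := (HomotopyCategory.quotient A _).obj I) hI
  dsimp [unitQ]
  infer_instance

include hres in
theorem exists_res (d : DerivedCategory A) : ∃ I : CochainComplex A ℤ, I.IsKInjective ∧ Nonempty (Q.obj I ≅ d) := by
  obtain ⟨K, ⟨e⟩⟩ : ∃ K, Nonempty (Q.obj K ≅ d) := ⟨_, ⟨(Q : _ ⥤ DerivedCategory A).objObjPreimageIso d⟩⟩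
  obtain ⟨I, f, hI, hf⟩ := hres K
  exact ⟨I, hI, ⟨(asIso (Q.map f)).symm ≪≫ e⟩⟩

include hres α in
theorem additive : RF.Additive := by
  refine ⟨fun {X Y f g} => ?_⟩
  obtain ⟨I, hI, ⟨eI⟩⟩ := exists_res hres X
  obtain ⟨J, hJ, ⟨eJ⟩⟩ := exists_res hres Y
  obtain ⟨a, ha⟩ := KInj.Q_map_surjective (eI.hom ≫ f ≫ eJ.inv)
  obtain ⟨b, hb⟩ := KInj.Q_map_surjective (eI.hom ≫ g ≫ eJ.inv)
  haveI := isIso_unitQ RF α hres I
  haveI := isIso_unitQ RF α hres J
  have key : RF.map (Q.map (a + b)) = RF.map (Q.map a) + RF.map (Q.map b) := by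
    have := fun c : I ⟶ J => (unitQ RF α).naturality c
    simp only [Functor.comp_map] at this
    rw [← cancel_epi ((unitQ RF α).app I), Preadditive.comp_add, ← this, ← this, ← this, Functor.map_add,
      Functor.map_add, Preadditive.add_comp]
  have hfg : f + g = eI.inv ≫ Q.map (a + b) ≫ eJ.hom := by simp [Functor.map_add, ha, hb]
  rw [hfg, RF.map_comp, RF.map_comp, key, Preadditive.add_comp, Preadditive.comp_add, ← RF.map_comp, ← RF.map_comp,
    ← RF.map_comp, ← RF.map_comp, ha, hb]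
  simp

include hres α in
theorem preservesLimit [HasProductsOfShape ℕ A] [HasProductsOfShape ℕ B] [HasExactLimitsOfShape (Discrete ℕ) B]
    [PreservesLimitsOfShape (Discrete ℕ) F] (K : ℕ → DerivedCategory A) :
    PreservesLimit (Discrete.functor K) RF := by
  choose I hI e using fun n => exists_res hres (K n)
  replace e := fun n => (e n).some
  haveI := hI
  haveI := KInj.isKInjective_pi I hI
  let c : Fan K := Fan.mk (Q.obj (∏ᶜ I)) fun n => Q.map (Pi.π I n) ≫ (e n).hom
  have hu : ∀ (s : Fan K), ∃! g : s.pt ⟶ Q.obj (∏ᶜ I), ∀ n, g ≫ Q.map (Pi.π I n) = s.proj n ≫ (e n).inv :=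
    fun s => existsUnique_lift_kinj I hI s.pt _
  have hc : IsLimit c := mkFanLimit _ (fun s => (hu s).exists.choose)
    (fun s n => by simp [c, reassoc_of% ((hu s).exists.choose_spec n)])
    (fun s m hm => (hu s).unique (fun n => by rw [← hm n]; simp [c]) (hu s).exists.choose_spec)
  refine preservesLimit_of_preserves_limit_cone hc ((isLimitMapConeFanMkEquiv RF _ _).symm ?_)
  let G := F.mapHomologicalComplex (ComplexShape.up ℤ)
  haveI : PreservesLimitsOfShape (Discrete ℕ) G := ⟨fun {D} => ⟨fun {c'} hc' => ⟨HomologicalComplex.isLimitOfEval _ _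
    fun i => isLimitOfPreserves (HomologicalComplex.eval A (ComplexShape.up ℤ) i ⋙ F) hc'⟩⟩⟩
  let P : G.obj (∏ᶜ I) ≅ ∏ᶜ fun n => G.obj (I n) := PreservesProduct.iso G I
  haveI := isIso_unitQ RF α hres (∏ᶜ I)
  haveI := fun n => isIso_unitQ RF α hres (I n)
  let φ : RF.obj (Q.obj (∏ᶜ I)) ≅ Q.obj (∏ᶜ fun n => G.obj (I n)) :=
    (asIso ((unitQ RF α).app (∏ᶜ I))).symm ≪≫ Q.mapIso P
  let ψ : ∀ n, Q.obj (G.obj (I n)) ≅ RF.obj (K n) := fun n =>
    asIso ((unitQ RF α).app (I n)) ≪≫ RF.mapIso (e n)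
  have hφ : ∀ n, RF.map (Q.map (Pi.π I n) ≫ (e n).hom) = φ.hom ≫ Q.map (Pi.π _ n) ≫ (ψ n).hom := fun n => by
    have := (unitQ RF α).naturality (Pi.π I n)
    simp only [Functor.comp_map] at this
    have hP : P.hom ≫ Pi.π (fun n => G.obj (I n)) n = G.map (Pi.π I n) := by simp [P]
    simp only [φ, ψ, Iso.trans_hom, Iso.symm_hom, asIso_inv, asIso_hom, Functor.mapIso_hom, assoc]
    rw [← Functor.map_comp_assoc, hP, reassoc_of% this, IsIso.inv_hom_id_assoc, RF.map_comp]
  have hv : ∀ (s : Fan fun n => RF.obj (K n)), ∃! g : s.pt ⟶ Q.obj (∏ᶜ fun n => G.obj (I n)),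
      ∀ n, g ≫ Q.map (Pi.π _ n) = s.proj n ≫ (ψ n).inv :=
    fun s => existsUnique_lift _ s.pt _
  refine mkFanLimit _ (fun s => (hv s).exists.choose ≫ φ.inv) (fun s n => ?_) (fun s m hm => ?_)
  · simp only [Fan.proj, Fan.mk_π_app]
    rw [hφ, assoc, Iso.inv_hom_id_assoc, reassoc_of% ((hv s).exists.choose_spec n)]
    simp only [Iso.inv_hom_id, comp_id]
    rfl
  · rw [Iso.eq_comp_inv]
    refine (hv s).unique (fun n => ?_) (hv s).exists.choose_spec
    have := hm n
    simp only [Fan.proj, Fan.mk_π_app, hφ] at this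
    rw [Iso.eq_comp_inv, assoc, assoc]
    exact this

include hres α in
theorem exists_triangle {X Y Z : DerivedCategory A} (g₁ : X ⟶ Y) (g₂ : Y ⟶ Z) (g₃ : Z ⟶ X⟦(1 : ℤ)⟧)
    (hT : Pretriangulated.Triangle.mk g₁ g₂ g₃ ∈ Pretriangulated.distinguishedTriangles) :
    ∃ c, Pretriangulated.Triangle.mk (RF.map g₁) (RF.map g₂) c ∈ Pretriangulated.distinguishedTriangles := by
  have hdef := KInj.isDeforming_Qh hres (toD F)
  obtain ⟨I, hI, ⟨eI⟩⟩ := hdef.res Y
  obtain ⟨J, hJ, ⟨eJ⟩⟩ := hdef.res Z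
  obtain ⟨φ, hφ⟩ := hdef.surj hJ (eI.inv ≫ g₂ ≫ eJ.hom)
  obtain ⟨T, a, b, h⟩ := Pretriangulated.distinguished_cocone_triangle₁ φ
  have hT' : CochainComplex.IsKInjective T.as := by
    let P := (HomotopyCategory.subcategoryAcyclic A).rightOrthogonal
    have hI' : P I := (CochainComplex.isKInjective_iff_rightOrthogonal I.as).1 hI
    have hJ' : P J := (CochainComplex.isKInjective_iff_rightOrthogonal J.as).1 hJ
    have hF' := P.ext_of_isTriangulatedClosed₁' _ h hI' hJ'
    rw [P.isoClosure_eq_self] at hF'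
    exact (CochainComplex.isKInjective_iff_rightOrthogonal T.as).2 hF'
  have h1 := DerivedCategory.Qh.map_distinguished (Pretriangulated.Triangle.mk a φ b) h
  have h2 := (toD F).map_distinguished (Pretriangulated.Triangle.mk a φ b) h
  have hφ' : DerivedCategory.Qh.map φ ≫ eJ.inv = eI.inv ≫ g₂ := by rw [hφ]; simp
  obtain ⟨e, he₂⟩ : ∃ e : DerivedCategory.Qh.obj T ≅ X,
      e.hom ≫ g₁ = DerivedCategory.Qh.map a ≫ eI.inv := by
    let iso := Pretriangulated.isoTriangleOfIso₁₂ _ _ (Pretriangulated.rot_of_distTriang _ h1)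
      (Pretriangulated.rot_of_distTriang _ hT) eI.symm eJ.symm hφ'
    let e₁ : DerivedCategory.Qh.obj T ≅ X :=
      (shiftFunctor (DerivedCategory A) (1 : ℤ)).preimageIso (Pretriangulated.Triangle.π₃.mapIso iso)
    refine ⟨e₁, (shiftFunctor (DerivedCategory A) (1 : ℤ)).map_injective ?_⟩
    have h3 : (-(DerivedCategory.Qh.map a)⟦(1 : ℤ)⟧') ≫ eI.inv⟦(1 : ℤ)⟧' = iso.hom.hom₃ ≫ (-g₁⟦(1 : ℤ)⟧') :=
      iso.hom.comm₃
    have h4 := neg_inj.1 ((Preadditive.neg_comp _ _).symm.trans (h3.trans (Preadditive.comp_neg _ _)))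
    have h5 : (shiftFunctor (DerivedCategory A) (1 : ℤ)).map e₁.hom = iso.hom.hom₃ :=
      Functor.map_preimage _ _
    rw [Functor.map_comp, Functor.map_comp]
    exact (congrArg (· ≫ _) h5).trans h4.symm
  haveI := isIso_α RF α hres hT'
  haveI := isIso_α RF α hres hI
  haveI := isIso_α RF α hres hJ
  let eF : (toD F).obj T ≅ RF.obj X := asIso (α.app T) ≪≫ RF.mapIso e
  let eI' : (toD F).obj I ≅ RF.obj Y := asIso (α.app I) ≪≫ RF.mapIso eI.symm
  let eJ' : (toD F).obj J ≅ RF.obj Z := asIso (α.app J) ≪≫ RF.mapIso eJ.symm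
  have c₁ : (toD F).map a ≫ eI'.hom = eF.hom ≫ RF.map g₁ := by
    simp only [eF, eI', Iso.trans_hom, asIso_hom, Functor.mapIso_hom, Iso.symm_hom, Category.assoc]
    rw [α.naturality_assoc a, Functor.comp_map]
    simp only [← Functor.map_comp, he₂]
  have c₂ : (toD F).map φ ≫ eJ'.hom = eI'.hom ≫ RF.map g₂ := by
    simp only [eJ', eI', Iso.trans_hom, asIso_hom, Functor.mapIso_hom, Iso.symm_hom, Category.assoc]
    rw [α.naturality_assoc φ, Functor.comp_map]
    simp only [← Functor.map_comp, hφ']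
  let w : (toD F).obj J ⟶ ((toD F).obj T)⟦(1 : ℤ)⟧ :=
    ((toD F).mapTriangle.obj (Pretriangulated.Triangle.mk a φ b)).mor₃
  refine ⟨eJ'.inv ≫ w ≫ eF.hom⟦(1 : ℤ)⟧', Pretriangulated.isomorphic_distinguished _ h2 _
    (Pretriangulated.Triangle.isoMk _ _ eF eI' eJ' c₁ c₂ ?_).symm⟩
  exact (eJ'.hom_inv_id_assoc _).symm

end Derived

end Groth.Agent.RlimDer
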